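import Cfsg.Agent.Golay.Basic
import Mathlib

/-!
A cocycle for the code loop on the length 24 code, in coordinates.
-/

set_option autoImplicit false

namespace CfsgLib.ParkerExt

open Cfsg CfsgLib.Golay

/-- Linear and quadratic coefficient masks. -/
def qrows : List (ℕ × List ℕ) :=
  [(256, [1824, 840, 1412, 3392, 450, 308, 2344, 3838, 2310, 282, 912]),
   (32, [2600, 1076, 360, 4061, 688, 3168, 2097, 101, 169, 420]),
   (512, [1539, 1632, 786, 2577, 3840, 673, 3579, 664, 706]),
   (1024, [1218, 3330, 1808, 3089, 1121, 3140, 3063, 1696]),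
   (64, [2118, 4015, 2632, 579, 452, 77, 225]),
   (0, [1043, 2563, 15, 1158, 586, 154]),
   (0, [2322, 153, 30, 2104, 1172]),
   (2048, [2117, 2100, 2062, 1919]),
   (0, [1045, 2569, 1155]),
   (0, [300, 141]),
   (0, [456]),
   (0, [])]

/-- Quadratic map in coordinates. -/
def quad : List (ℕ × List ℕ) → ℕ → ℕ
  | [], _ => 0
  | r :: rs, c => ((if c % 2 = 1 then r.1 else 0) ^^^ (if c % 2 = 1 then comb r.2 (c / 2) else 0)) ^^^
      quad rs (c / 2)

/-- Its polar form. -/
def pol : List (ℕ × List ℕ) → ℕ → ℕ → ℕ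
  | [], _, _ => 0
  | r :: rs, b, c => ((if b % 2 = 1 then comb r.2 (c / 2) else 0) ^^^ (if c % 2 = 1 then comb r.2 (b / 2) else 0)) ^^^
      pol rs (b / 2) (c / 2)

theorem quad_xor : ∀ (L : List (ℕ × List ℕ)) (b c : ℕ),
    quad L (b ^^^ c) = quad L b ^^^ quad L c ^^^ pol L b c := by
  intro L
  induction L with
  | nil => intro b c; simp [quad, pol]
  | cons r rs ih =>
    intro b c
    simp only [quad, pol, Nat.xor_div_two, ih, comb_xor, Nat.xor_mod_two_eq_one]
    by_cases hb : b % 2 = 1 <;> by_cases hc : c % 2 = 1 <;>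
      simp only [hb, hc, if_true, if_false, not_true, not_false_eq_true, iff_self, iff_false, false_iff,
        iff_true, true_iff] <;>
      apply Nat.eq_of_testBit_eq <;> intro i <;> simp only [Nat.testBit_xor, Nat.zero_testBit] <;>
      cases r.1.testBit i <;> cases (comb r.2 (b / 2)).testBit i <;> cases (comb r.2 (c / 2)).testBit i <;>
      cases (quad rs (b / 2)).testBit i <;> cases (quad rs (c / 2)).testBit i <;>
      cases (pol rs (b / 2) (c / 2)).testBit i <;> rfl

theorem pol_xor_left : ∀ (L : List (ℕ × List ℕ)) (a b c : ℕ),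
    pol L (a ^^^ b) c = pol L a c ^^^ pol L b c := by
  intro L
  induction L with
  | nil => intro a b c; simp [pol]
  | cons r rs ih =>
    intro a b c
    simp only [pol, Nat.xor_div_two, ih, comb_xor, Nat.xor_mod_two_eq_one]
    by_cases ha : a % 2 = 1 <;> by_cases hb : b % 2 = 1 <;> by_cases hc : c % 2 = 1 <;>
      simp only [ha, hb, hc, if_true, if_false, not_true, not_false_eq_true, iff_self, iff_false, false_iff,
        iff_true, true_iff] <;>
      apply Nat.eq_of_testBit_eq <;> intro i <;> simp only [Nat.testBit_xor, Nat.zero_testBit] <;>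
      cases (comb r.2 (a / 2)).testBit i <;> cases (comb r.2 (b / 2)).testBit i <;>
      cases (comb r.2 (c / 2)).testBit i <;> cases (pol rs (a / 2) (c / 2)).testBit i <;>
      cases (pol rs (b / 2) (c / 2)).testBit i <;> rfl

theorem pol_comm : ∀ (L : List (ℕ × List ℕ)) (b c : ℕ), pol L b c = pol L c b := by
  intro L
  induction L with
  | nil => intro b c; rfl
  | cons r rs ih => intro b c; simp only [pol, ih (b / 2)]; rw [Nat.xor_comm (if b % 2 = 1 then _ else _)]

theorem pol_xor_right (L : List (ℕ × List ℕ)) (a b c : ℕ) :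
    pol L a (b ^^^ c) = pol L a b ^^^ pol L a c := by
  rw [pol_comm, pol_xor_left, pol_comm L b, pol_comm L c]

/-- A bit as an element of the two element field. -/
def bitz (m i : ℕ) : ZMod 2 := if m.testBit i then 1 else 0

theorem bitz_xor (a b i : ℕ) : bitz (a ^^^ b) i = bitz a i + bitz b i := by
  simp only [bitz, Nat.testBit_xor]
  cases a.testBit i <;> cases b.testBit i <;> decide

/-- The pairing on coordinates. -/
def par (m d : ℕ) : ZMod 2 := ∑ i : Fin 12, bitz m i * bitz d i

theorem par_xor_left (a b d : ℕ) : par (a ^^^ b) d = par a d + par b d := by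
  simp only [par, bitz_xor, add_mul, Finset.sum_add_distrib]

theorem par_xor_right (m a b : ℕ) : par m (a ^^^ b) = par m a + par m b := by
  simp only [par, bitz_xor, mul_add, Finset.sum_add_distrib]

/-- The cocycle. -/
def theta (c d : ℕ) : ZMod 2 := par (quad qrows c) d

/-- Parity of a triple intersection. -/
def tri (b c d : ℕ) : ZMod 2 := ∑ p : GolayPt, vec (word b) p * vec (word c) p * vec (word d) p

theorem vec_word_xor (a b : ℕ) : vec (word (a ^^^ b)) = vec (word a) + vec (word b) := by
  rw [word, comb_xor, vec_xor]; rfl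

theorem eq_of_basis {F F' : ℕ → ZMod 2} (hF : ∀ a b, F (a ^^^ b) = F a + F b)
    (hF' : ∀ a b, F' (a ^^^ b) = F' a + F' b) (h : ∀ i < 12, F (2 ^ i) = F' (2 ^ i)) :
    ∀ c < 4096, F c = F' c := by
  have h0 : ∀ G : ℕ → ZMod 2, (∀ a b, G (a ^^^ b) = G a + G b) → G 0 = 0 := fun G hG => by
    have := hG 0 0
    rw [Nat.xor_self] at this
    simpa using this
  have key : ∀ n ≤ 12, ∀ c < 2 ^ n, F c = F' c := by
    intro n
    induction n with
    | zero => intro _ c hc; rw [show c = 0 by omega, h0 F hF, h0 F' hF']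
    | succ n ih =>
      intro hn c hc
      by_cases hb : c < 2 ^ n
      · exact ih (by omega) c hb
      · have e : c = (c ^^^ 2 ^ n) ^^^ 2 ^ n := by rw [Nat.xor_assoc, Nat.xor_self, Nat.xor_zero]
        have hlt : c ^^^ 2 ^ n < 2 ^ n := by
          refine Nat.lt_pow_two_of_testBit _ fun i hi => ?_
          rw [Nat.testBit_xor, Nat.testBit_two_pow]
          rcases eq_or_lt_of_le hi with rfl | hlt
          · have : c.testBit n = true := by
              rw [Nat.testBit_eq_decide_div_mod_eq, decide_eq_true_eq]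
              have h1 : c / 2 ^ n = 1 := by
                rw [pow_succ] at hc
                exact Nat.div_eq_of_lt_le (by omega) (by omega)
              rw [h1]
            simp [this]
          · rw [Nat.testBit_lt_two_pow (lt_of_lt_of_le hc (Nat.pow_le_pow_right two_pos hlt))]
            simp [hlt.ne]
        rw [e, hF, hF', ih (by omega) _ hlt, h n (by omega)]
  exact fun c hc => key 12 le_rfl c hc

theorem tri_basis : ∀ i < 12, ∀ j < 12, ∀ k < 12,
    par (pol qrows (2 ^ i) (2 ^ j)) (2 ^ k) = tri (2 ^ i) (2 ^ j) (2 ^ k) := by decide +kernel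

theorem par_pol {b c d : ℕ} (hb : b < 4096) (hc : c < 4096) (hd : d < 4096) :
    par (pol qrows b c) d = tri b c d := by
  refine eq_of_basis (fun x y => ?_) (fun x y => ?_) (fun k hk => ?_) d hd
  · rw [par_xor_right]
  · simp only [tri, vec_word_xor, Pi.add_apply, mul_add, Finset.sum_add_distrib]
  refine eq_of_basis (F := fun b => par (pol qrows b c) (2 ^ k)) (F' := fun b => tri b c (2 ^ k))
    (fun x y => ?_) (fun x y => ?_) (fun i hi => ?_) b hb
  · simp only [pol_xor_left, par_xor_left]
  · simp only [tri, vec_word_xor, Pi.add_apply, add_mul, Finset.sum_add_distrib]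
  refine eq_of_basis (F := fun c => par (pol qrows (2 ^ i) c) (2 ^ k)) (F' := fun c => tri (2 ^ i) c (2 ^ k))
    (fun x y => ?_) (fun x y => ?_) (fun j hj => ?_) c hc
  · simp only [pol_xor_right, par_xor_left]
  · simp only [tri, vec_word_xor, Pi.add_apply, mul_add, add_mul, Finset.sum_add_distrib]
  exact tri_basis i hi j hj k hk

theorem theta_add_right (b c d : ℕ) : theta b (c ^^^ d) = theta b c + theta b d := par_xor_right _ _ _

theorem theta_add_left {b c d : ℕ} (hb : b < 4096) (hc : c < 4096) (hd : d < 4096) :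
    theta (b ^^^ c) d = theta b d + theta c d + tri b c d := by
  rw [← par_pol hb hc hd, theta, quad_xor, par_xor_left, par_xor_left]
  rfl

theorem theta_diag : ∀ c < 4096, theta c c = ((wt 24 (word c) / 4 : ℕ) : ZMod 2) :=
  forall_lt_4096 (by decide +kernel)

end CfsgLib.ParkerExt
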