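import Cfsg.Agent.ParkerExt.Form

/-!
The extension of the stabiliser of the extra point by the dual of the subcode, and its non-splitting.
-/

set_option autoImplicit false

namespace CfsgLib.ParkerExt

open Cfsg CfsgLib.Golay CfsgLib.Golay.SylowCert

/-- An element: a permutation with a refinement of its form. -/
@[ext]
structure Ext : Type where
  perm : Spor.M23
  fn : C0 → ZMod 2
  cond : ∀ u v, fn (u + v) = fn u + fn v + form perm u v

noncomputable instance : Mul Ext where
  mul x y := ⟨x.perm * y.perm, fun u => y.fn u + x.fn (act y.perm u), fun u v => by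
    simp only [act_add, x.cond, y.cond, form_mul]; abel⟩

noncomputable instance : One Ext where
  one := ⟨1, fun _ => 0, fun u v => by simp [form_one]⟩

noncomputable instance : Inv Ext where
  inv x := ⟨x.perm⁻¹, fun u => x.fn (act x.perm⁻¹ u), fun u v => by
    have h := form_mul x.perm x.perm⁻¹ u v
    rw [mul_inv_cancel, form_one] at h
    simp only [act_add, x.cond]
    rw [CharTwo.add_eq_zero.mp h.symm]⟩

theorem mul_perm (x y : Ext) : (x * y).perm = x.perm * y.perm := rfl
theorem mul_fn (x y : Ext) (u : C0) : (x * y).fn u = y.fn u + x.fn (act y.perm u) := rfl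
theorem inv_perm (x : Ext) : x⁻¹.perm = x.perm⁻¹ := rfl
theorem inv_fn (x : Ext) (u : C0) : x⁻¹.fn u = x.fn (act x.perm⁻¹ u) := rfl
theorem one_perm : (1 : Ext).perm = 1 := rfl
theorem one_fn (u : C0) : (1 : Ext).fn u = 0 := rfl

noncomputable instance : Group Ext :=
  Group.ofLeftAxioms
    (fun x y z => Ext.ext (mul_assoc _ _ _) (funext fun u => by
      simp only [mul_fn, mul_perm, act_mul]; abel))
    (fun x => Ext.ext (one_mul _) (funext fun u => by simp [mul_fn, one_fn]))
    (fun x => Ext.ext (inv_mul_cancel _) (funext fun u => by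
      simp only [mul_fn, inv_fn, one_fn]
      rw [← act_mul, inv_mul_cancel, act_one]
      exact CharTwo.add_self_eq_zero _))

instance : Finite Ext :=
  Finite.of_injective (fun x : Ext => (x.perm, x.fn)) fun x y h =>
    Ext.ext (congrArg Prod.fst h) (congrArg Prod.snd h)

/-- The projection. -/
noncomputable def proj : Ext →* Spor.M23 where
  toFun := Ext.perm
  map_one' := rfl
  map_mul' _ _ := rfl

theorem proj_surjective : Function.Surjective proj := fun σ =>
  let ⟨f, hf⟩ := exists_refinement σ
  ⟨⟨σ, f, hf⟩, rfl⟩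

/-- A word as an element over the identity. -/
def transl (w : GolayPt → ZMod 2) : Ext :=
  ⟨1, fun u => ∑ p, w p * u.1 p, fun u v => by
    simp [form_one, mul_add, Finset.sum_add_distrib]⟩

theorem transl_perm (w : GolayPt → ZMod 2) : (transl w).perm = 1 := rfl

theorem transl_add (v w : GolayPt → ZMod 2) : transl (v + w) = transl v * transl w := by
  refine Ext.ext (one_mul _).symm (funext fun u => ?_)
  show ∑ p, (v + w) p * u.1 p = ∑ p, w p * u.1 p + ∑ p, v p * (act 1 u).1 p
  rw [act_one, add_comm, ← Finset.sum_add_distrib]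
  simp [add_mul]

theorem transl_eq_one_iff (w : GolayPt → ZMod 2) :
    transl w = 1 ↔ (w ∈ golayCode ∨ w + Pi.single none 1 ∈ golayCode) := by
  have key : transl w = 1 ↔ ∀ u : C0, ∑ p, w p * u.1 p = 0 :=
    ⟨fun h u => congrFun (congrArg Ext.fn h) u, fun h => Ext.ext rfl (funext h)⟩
  rw [key]
  constructor
  · intro h
    have hone : (1 : GolayPt → ZMod 2) ∈ golayCode := Submodule.subset_span (Or.inr rfl)
    have hc : ∀ c, c ∈ golayCode →
        ∑ p, w p * c p = c none * ∑ p, w p := by
      intro c hc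
      rcases Cert.zmod_two (c none) with h0 | h0
      · rw [h0, zero_mul]; exact h ⟨c, mem_C0.mpr ⟨hc, h0⟩⟩
      · have := h ⟨c + 1, mem_C0.mpr ⟨add_mem hc hone, by simp [h0]; decide⟩⟩
        simp only [Pi.add_apply, Pi.one_apply, mul_add, mul_one, Finset.sum_add_distrib] at this
        rw [h0, one_mul]
        exact CharTwo.add_eq_zero.mp this
    rcases Cert.zmod_two (∑ p, w p) with ha | ha
    · exact Or.inl (Cert.mem_code_of_orth fun c => by rw [hc _ (vec_word_mem c), ha, mul_zero])
    · refine Or.inr (Cert.mem_code_of_orth fun c => ?_)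
      simp only [Pi.add_apply, add_mul, Finset.sum_add_distrib, hc _ (vec_word_mem c), ha, mul_one,
        Pi.single_apply, ite_mul, one_mul, zero_mul, Finset.sum_ite_eq', Finset.mem_univ, if_true]
      exact CharTwo.add_self_eq_zero _
  · rintro (h | h) u
    · exact dot_eq_zero h (mem_code u)
    · have := dot_eq_zero h (mem_code u)
      simpa [add_mul, Finset.sum_add_distrib, Pi.single_apply, (mem_C0.mp u.2).2] using this

theorem exists_transl {x : Ext} (hx : x.perm = 1) : ∃ w, transl w = x := by
  have hadd : ∀ u v, x.fn (u + v) = x.fn u + x.fn v := fun u v => by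
    rw [x.cond, hx, form_one, add_zero]
  have hsmul : ∀ (r : ZMod 2) (u : C0), x.fn (r • u) = r • x.fn u := fun r u => by
    rcases Cert.zmod_two r with rfl | rfl
    · have h := hadd 0 0
      rw [add_zero, left_eq_add] at h
      rw [zero_smul, zero_smul, h]
    · rw [one_smul, one_smul]
  let L : C0 →ₗ[ZMod 2] ZMod 2 := { toFun := x.fn, map_add' := hadd, map_smul' := hsmul }
  obtain ⟨F, hF⟩ := LinearMap.exists_extend L
  refine ⟨fun p => F (Pi.single p 1), Ext.ext hx.symm (funext fun u => ?_)⟩
  have hu : F (C0.subtype u) = L u := by rw [← LinearMap.comp_apply, hF]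
  rw [Submodule.subtype_apply] at hu
  change ∑ p, F (Pi.single p 1) * u.1 p = L u
  rw [← hu]
  conv_rhs => rw [← Finset.univ_sum_single (u.1 : GolayPt → ZMod 2), map_sum]
  refine Finset.sum_congr rfl fun p _ => ?_
  have e : Pi.single p (u.1 p) = u.1 p • (Pi.single p 1 : GolayPt → ZMod 2) := by
    rw [← Pi.single_smul', smul_eq_mul, mul_one]
  rw [e, map_smul, smul_eq_mul, mul_comm]

theorem conj_transl (g : Ext) (w : GolayPt → ZMod 2) :
    transl (w ∘ ⇑((g.perm : Equiv.Perm GolayPt)⁻¹)) = g * transl w * g⁻¹ := by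
  refine Ext.ext ?_ (funext fun u => ?_)
  · simp [mul_perm, inv_perm, transl_perm]
  · rw [mul_fn, mul_fn, inv_fn, inv_perm, transl_perm, act_one]
    show _ = g.fn (act g.perm⁻¹ u) + (∑ p, w p * (act g.perm⁻¹ u).1 p + g.fn (act g.perm⁻¹ u))
    rw [add_left_comm, CharTwo.add_self_eq_zero, add_zero]
    show ∑ p, w ((g.perm.1⁻¹ : Equiv.Perm GolayPt) p) * u.1 p = ∑ p, w p * u.1 ((g.perm.1⁻¹)⁻¹ p)
    rw [inv_inv, ← Equiv.sum_comp (g.perm.1 : Equiv.Perm GolayPt)]
    simp

/-- The action of a position list on coordinates. -/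
def cact (L : List ℕ) (c : ℕ) : ℕ := permMask L (word c) 24 % 4096

/-- A list fixing the extra point and preserving the code. -/
def In23 (L : List ℕ) : Prop :=
  Good L ∧ L.length = 24 ∧ PreservesCode L ∧ L.getD (idx none) 0 = idx none

instance (L : List ℕ) : Decidable (In23 L) := by unfold In23 PreservesCode; infer_instance

/-- The element of a list. -/
def elt23 (L : List ℕ) (h : In23 L) : Spor.M23 :=
  ⟨permL L, permL_mem_M24 h.1 h.2.1 h.2.2.1, permL_fix h.1 h.2.1 h.2.2.2⟩

theorem kap_act {L : List ℕ} (h : In23 L) (u : C0) :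
    kap (act (elt23 L h) u).1 = cact L (kap u.1) := by
  obtain ⟨ha, hau⟩ := kap_spec (mem_code u)
  obtain ⟨hb, hbv⟩ := kap_spec (mem_code (act (elt23 L h) u))
  have e : vec (permMask L (word (kap u.1)) 24) = vec (word (kap (act (elt23 L h) u).1)) := by
    rw [hbv]
    conv_lhs => rw [← toList_permL h.1 h.2.1, vec_permMask, hau]
    rfl
  have e' := vec_inj (by rw [← toList_permL h.1 h.2.1]; exact permMask_lt _ _) (word_lt _ hb) e
  rw [cact, e', word_mod _ hb]

theorem C0_eq {u v : C0} (h : kap u.1 = kap v.1) : u = v :=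
  Subtype.ext (by rw [← (kap_spec (mem_code u)).2, h, (kap_spec (mem_code v)).2])

theorem kap_C0_add (u v : C0) : kap (u + v).1 = kap u.1 ^^^ kap v.1 :=
  kap_add (mem_code u) (mem_code v)

/-- First permutation of the quaternion pair. -/
def La : List ℕ := [7, 19, 16, 17, 4, 21, 12, 14, 8, 22, 0, 11, 1, 3, 10, 20, 2, 18, 13, 6, 15, 9, 5, 23]

/-- Second permutation of the quaternion pair. -/
def Lb : List ℕ := [6, 0, 20, 5, 4, 18, 14, 19, 8, 3, 12, 11, 7, 21, 1, 16, 15, 22, 9, 10, 2, 17, 13, 23]

theorem in23_a : In23 La := by decide +kernel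
theorem in23_b : In23 Lb := by decide +kernel

theorem rel_lists : compL La La = compL Lb Lb ∧ compL (compL La Lb) La = Lb := by decide +kernel

theorem cert :
    cact La 273 ^^^ 273 ^^^ 2719 = cact Lb (cact La 2719) ∧
    cact Lb 273 ^^^ 273 ^^^ cact La 2719 = 2719 ∧
    (word 273).testBit 23 = false ∧ (word 2719).testBit 23 = false ∧
    (theta (cact La 273) (cact La (cact La 273)) + theta 273 (cact La 273) +
      (theta (cact La (273 ^^^ cact La 273)) (cact La 2719) + theta (273 ^^^ cact La 273) 2719)) +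
    (theta (cact Lb 273) (cact Lb (cact Lb 273)) + theta 273 (cact Lb 273) +
      (theta (cact Lb (273 ^^^ cact Lb 273)) (cact Lb (cact La 2719)) +
        theta (273 ^^^ cact Lb 273) (cact La 2719))) = 1 := by decide +kernel

theorem no_complement (H : Subgroup Ext) (hH : H ⊓ proj.ker = ⊥) : H ⊔ proj.ker ≠ ⊤ := by
  intro htop
  have lift : ∀ σ, ∃ h ∈ H, proj h = σ := fun σ => by
    obtain ⟨g, rfl⟩ := proj_surjective σ
    obtain ⟨h, hh, n, hn, rfl⟩ := Subgroup.mem_sup_of_normal_right.mp (htop ▸ Subgroup.mem_top g)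
    exact ⟨h, hh, by rw [map_mul, MonoidHom.mem_ker.mp hn, mul_one]⟩
  have uniq : ∀ h ∈ H, ∀ k ∈ H, proj h = proj k → h = k := fun h hh k hk e => by
    have : h * k⁻¹ ∈ H ⊓ proj.ker :=
      Subgroup.mem_inf.mpr ⟨H.mul_mem hh (H.inv_mem hk), by simp [MonoidHom.mem_ker, e]⟩
    rw [hH, Subgroup.mem_bot, mul_inv_eq_one] at this
    exact this
  obtain ⟨ea, haH, ha⟩ := lift (elt23 La in23_a)
  obtain ⟨eb, hbH, hb⟩ := lift (elt23 Lb in23_b)
  have hl := toList_permL in23_a.1 in23_a.2.1
  have hl' := toList_permL in23_b.1 in23_b.2.1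
  have r1 : ea * ea = eb * eb := uniq _ (mul_mem haH haH) _ (mul_mem hbH hbH) (by
    rw [map_mul, map_mul, ha, hb]
    refine Subtype.ext (Golay.SylowCert.toList_injective ?_)
    show toList (permL La * permL La) = toList (permL Lb * permL Lb)
    rw [toList_mul, toList_mul, hl, hl', rel_lists.1])
  have r2 : ea * eb * ea = eb := uniq _ (mul_mem (mul_mem haH hbH) haH) _ hbH (by
    rw [map_mul, map_mul, ha, hb]
    refine Subtype.ext (Golay.SylowCert.toList_injective ?_)
    show toList (permL La * permL Lb * permL La) = toList (permL Lb)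
    rw [toList_mul, toList_mul, hl, hl', rel_lists.2])
  obtain ⟨c1, c2, c3, c4, c5⟩ := cert
  have mk : ∀ c, (word c).testBit 23 = false → vec (word c) ∈ C0 := fun c hc =>
    mem_C0.mpr ⟨vec_word_mem c, by simp [vec, idx, hc]⟩
  set x : C0 := ⟨_, mk _ c3⟩
  set y : C0 := ⟨_, mk _ c4⟩
  have kx : kap x.1 = 273 := kap_word (by norm_num)
  have ky : kap y.1 = 2719 := kap_word (by norm_num)
  set A := elt23 La in23_a
  set B := elt23 Lb in23_b
  have pa' : ea.perm = A := ha
  have pb' : eb.perm = B := hb
  have h1 := congrFun (congrArg Ext.fn r1) x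
  have h2 := congrFun (congrArg Ext.fn r2) y
  simp only [mul_fn, pa', pb'] at h1 h2
  have ex : act B (act A y) = act A x + x + y := C0_eq (by
    simp only [kap_act, kap_C0_add, A, B, kx, ky, c1])
  have ey : y = act B x + x + act A y := C0_eq (by
    simp only [kap_act, kap_C0_add, A, B, kx, ky, c2])
  have d1 := ea.cond (x + act A x) y
  have d2 := ea.cond x (act A x)
  have d3 := eb.cond (x + act B x) (act A y)
  have d4 := eb.cond x (act B x)
  rw [add_comm x (act A x), ← ex, add_comm (act A x) x] at d1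
  rw [add_comm x (act B x), ← ey, add_comm (act B x) x] at d3
  rw [pa'] at d1 d2
  rw [pb'] at d3 d4
  have hval : form A x (act A x) + form A (x + act A x) y +
      (form B x (act B x) + form B (x + act B x) (act A y)) = 1 := by
    show (theta (kap (act A x).1) (kap (act A (act A x)).1) + theta (kap x.1) (kap (act A x).1) +
      (theta (kap (act A (x + act A x)).1) (kap (act A y).1) + theta (kap (x + act A x).1) (kap y.1))) +
      (theta (kap (act B x).1) (kap (act B (act B x)).1) + theta (kap x.1) (kap (act B x).1) +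
      (theta (kap (act B (x + act B x)).1) (kap (act B (act A y)).1) +
        theta (kap (x + act B x).1) (kap (act A y).1))) = 1
    simp only [kap_act, kap_C0_add, A, B, kx, ky]
    exact c5
  revert h1 h2 d1 d2 d3 d4 hval
  generalize ea.fn x = a0
  generalize ea.fn (act A x) = a1
  generalize ea.fn y = a2
  generalize ea.fn (x + act A x) = a3
  generalize ea.fn (act B (act A y)) = a4
  generalize eb.fn x = b0
  generalize eb.fn (act B x) = b1
  generalize eb.fn (x + act B x) = b2
  generalize eb.fn (act A y) = b3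
  generalize eb.fn y = b4
  generalize form A x (act A x) = p
  generalize form A (x + act A x) y = q
  generalize form B x (act B x) = r
  generalize form B (x + act B x) (act A y) = s
  intro h1 h2 d1 d2 d3 d4 hval
  subst d2 d4 d1 d3
  revert h1 h2 hval a0 a1 a2 b0 b1 b3 p q r s
  decide

end CfsgLib.ParkerExt
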