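import Cfsg.Agent.ParkerExt.Coord
import Cfsg.Agent.Golay.CodeModule
import Cfsg.Agent.Golay.MathieuFusion

/-!
The alternating form measuring how a code automorphism moves the cocycle, and quadratic refinements.
-/

set_option autoImplicit false

namespace CfsgLib.ParkerExt

open Cfsg CfsgLib.Golay

open scoped Classical in
/-- Coordinates of a word of the code. -/
noncomputable def kap (v : GolayPt → ZMod 2) : ℕ :=
  if h : ∃ c < 4096, v = vec (word c) then Classical.choose h else 0

theorem kap_spec {v : GolayPt → ZMod 2} (hv : v ∈ golayCode) :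
    kap v < 4096 ∧ vec (word (kap v)) = v := by
  have h := (mem_code_iff v).mp hv
  rw [kap, dif_pos h]
  exact ⟨(Classical.choose_spec h).1, (Classical.choose_spec h).2.symm⟩

theorem kap_word {c : ℕ} (hc : c < 4096) : kap (vec (word c)) = c := by
  obtain ⟨h1, h2⟩ := kap_spec (vec_word_mem c)
  exact word_inj h1 hc (by rw [← support_vec, h2, support_vec])

theorem kap_add {u v : GolayPt → ZMod 2} (hu : u ∈ golayCode) (hv : v ∈ golayCode) :
    kap (u + v) = kap u ^^^ kap v := by
  obtain ⟨ha, hau⟩ := kap_spec hu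
  obtain ⟨hb, hbv⟩ := kap_spec hv
  conv_lhs => rw [← hau, ← hbv, ← vec_word_xor]
  exact kap_word (Nat.xor_lt_two_pow (n := 12) ha hb)

/-- The cocycle on words. -/
noncomputable def thV (u v : GolayPt → ZMod 2) : ZMod 2 := theta (kap u) (kap v)

/-- Parity of a triple intersection of words. -/
def trV (u v w : GolayPt → ZMod 2) : ZMod 2 := ∑ p, u p * v p * w p

theorem thV_add_right {u v w : GolayPt → ZMod 2} (hv : v ∈ golayCode) (hw : w ∈ golayCode) :
    thV u (v + w) = thV u v + thV u w := by
  rw [thV, kap_add hv hw, theta_add_right]; rfl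

theorem thV_add_left {u v w : GolayPt → ZMod 2} (hu : u ∈ golayCode) (hv : v ∈ golayCode)
    (hw : w ∈ golayCode) : thV (u + v) w = thV u w + thV v w + trV u v w := by
  rw [thV, kap_add hu hv, theta_add_left (kap_spec hu).1 (kap_spec hv).1 (kap_spec hw).1, tri,
    (kap_spec hu).2, (kap_spec hv).2, (kap_spec hw).2]
  rfl

theorem thV_diag {u : GolayPt → ZMod 2} (hu : u ∈ golayCode) :
    thV u u = (((support₂ u).card / 4 : ℕ) : ZMod 2) := by
  obtain ⟨ha, hau⟩ := kap_spec hu
  rw [thV, theta_diag _ ha, ← card_pts, ← support_vec, hau]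

/-- A permutation acting on words. -/
def pa (σ : Equiv.Perm GolayPt) (u : GolayPt → ZMod 2) : GolayPt → ZMod 2 := fun p => u (σ⁻¹ p)

theorem pa_one (u : GolayPt → ZMod 2) : pa 1 u = u := rfl

theorem pa_mul (σ τ : Equiv.Perm GolayPt) (u : GolayPt → ZMod 2) : pa (σ * τ) u = pa σ (pa τ u) := by
  funext p; simp [pa, mul_inv_rev]

theorem pa_add (σ : Equiv.Perm GolayPt) (u v : GolayPt → ZMod 2) : pa σ (u + v) = pa σ u + pa σ v := rfl

theorem trV_pa (σ : Equiv.Perm GolayPt) (u v w : GolayPt → ZMod 2) :
    trV (pa σ u) (pa σ v) (pa σ w) = trV u v w :=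
  Equiv.sum_comp (σ⁻¹ : Equiv.Perm GolayPt) (fun p => u p * v p * w p)

theorem card_support_pa (σ : Equiv.Perm GolayPt) (u : GolayPt → ZMod 2) :
    (support₂ (pa σ u)).card = (support₂ u).card := by
  rw [← Finset.card_map σ.toEmbedding (s := support₂ u)]
  congr 1
  ext p
  simp only [Finset.mem_map_equiv, support₂, Finset.mem_filter, Finset.mem_univ, true_and]
  rfl

theorem pa_mem {σ : Equiv.Perm GolayPt} (hσ : σ ∈ M24) {u : GolayPt → ZMod 2} (hu : u ∈ golayCode) :
    pa σ u ∈ golayCode := Cert.code_perm ⟨σ, hσ⟩ hu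

/-- The change of the cocycle under a permutation. -/
noncomputable def del (σ : Equiv.Perm GolayPt) (u v : GolayPt → ZMod 2) : ZMod 2 :=
  thV (pa σ u) (pa σ v) + thV u v

theorem del_one (u v : GolayPt → ZMod 2) : del 1 u v = 0 := CharTwo.add_self_eq_zero _

theorem del_mul (σ τ : Equiv.Perm GolayPt) (u v : GolayPt → ZMod 2) :
    del (σ * τ) u v = del σ (pa τ u) (pa τ v) + del τ u v := by
  have key : ∀ a b c : ZMod 2, a + c = (a + b) + (b + c) := by decide
  rw [del, del, del, pa_mul, pa_mul]
  exact key _ _ _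

theorem del_add_right {σ : Equiv.Perm GolayPt} (hσ : σ ∈ M24) {u v w : GolayPt → ZMod 2}
    (hv : v ∈ golayCode) (hw : w ∈ golayCode) :
    del σ u (v + w) = del σ u v + del σ u w := by
  rw [del, del, del, pa_add, thV_add_right (pa_mem hσ hv) (pa_mem hσ hw), thV_add_right hv hw]
  abel

theorem del_add_left {σ : Equiv.Perm GolayPt} (hσ : σ ∈ M24) {u v w : GolayPt → ZMod 2}
    (hu : u ∈ golayCode) (hv : v ∈ golayCode) (hw : w ∈ golayCode) :
    del σ (u + v) w = del σ u w + del σ v w := by
  have key : ∀ a b c a' b' t : ZMod 2, (a + b + t) + (a' + b' + t) = (a + a') + (b + b') + 0 * c := by decide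
  rw [del, del, del, pa_add, thV_add_left (pa_mem hσ hu) (pa_mem hσ hv) (pa_mem hσ hw),
    thV_add_left hu hv hw, trV_pa, key _ _ 0, zero_mul, add_zero]

theorem del_self {σ : Equiv.Perm GolayPt} (hσ : σ ∈ M24) {u : GolayPt → ZMod 2} (hu : u ∈ golayCode) :
    del σ u u = 0 := by
  rw [del, thV_diag (pa_mem hσ hu), thV_diag hu, card_support_pa]
  exact CharTwo.add_self_eq_zero _

/-- Words of the code vanishing at the extra point. -/
def C0 : Submodule (ZMod 2) (GolayPt → ZMod 2) :=
  golayCode ⊓ LinearMap.ker (LinearMap.proj none : (GolayPt → ZMod 2) →ₗ[ZMod 2] ZMod 2)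

theorem mem_C0 {u : GolayPt → ZMod 2} : u ∈ C0 ↔ u ∈ golayCode ∧ u none = 0 := Iff.rfl

theorem mem_code (u : C0) : (u : GolayPt → ZMod 2) ∈ golayCode := (mem_C0.mp u.2).1

theorem m23_mem (σ : Spor.M23) : (σ : Equiv.Perm GolayPt) ∈ M24 := σ.2.1

/-- The action on `C0`. -/
def act (σ : Spor.M23) (u : C0) : C0 :=
  ⟨pa σ.1 u.1, mem_C0.mpr ⟨pa_mem (m23_mem σ) (mem_code u), by
    have h : (σ.1 : Equiv.Perm GolayPt) none = none := σ.2.2
    have h' : (σ.1⁻¹ : Equiv.Perm GolayPt) none = none := by
      rw [Equiv.Perm.inv_def, Equiv.symm_apply_eq, h]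
    show u.1 ((σ.1⁻¹ : Equiv.Perm GolayPt) none) = 0
    rw [h']; exact (mem_C0.mp u.2).2⟩⟩

theorem act_one (u : C0) : act 1 u = u := rfl

theorem act_mul (σ τ : Spor.M23) (u : C0) : act (σ * τ) u = act σ (act τ u) :=
  Subtype.ext (pa_mul _ _ _)

theorem act_add (σ : Spor.M23) (u v : C0) : act σ (u + v) = act σ u + act σ v := rfl

/-- The form on `C0`. -/
noncomputable def form (σ : Spor.M23) (u v : C0) : ZMod 2 := del σ.1 u.1 v.1

theorem form_one (u v : C0) : form 1 u v = 0 := del_one _ _

theorem form_mul (σ τ : Spor.M23) (u v : C0) :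
    form (σ * τ) u v = form σ (act τ u) (act τ v) + form τ u v := del_mul _ _ _ _

theorem form_add_left (σ : Spor.M23) (u v w : C0) : form σ (u + v) w = form σ u w + form σ v w :=
  del_add_left (m23_mem σ) (mem_code u) (mem_code v) (mem_code w)

theorem form_add_right (σ : Spor.M23) (u v w : C0) : form σ u (v + w) = form σ u v + form σ u w :=
  del_add_right (m23_mem σ) (mem_code v) (mem_code w)

theorem form_smul_left (σ : Spor.M23) (r : ZMod 2) (u v : C0) : form σ (r • u) v = r • form σ u v := by
  rcases Cert.zmod_two r with rfl | rfl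
  · have h := form_add_left σ 0 0 v
    rw [add_zero, left_eq_add] at h
    rw [zero_smul, zero_smul, h]
  · rw [one_smul, one_smul]

theorem form_smul_right (σ : Spor.M23) (r : ZMod 2) (u v : C0) : form σ u (r • v) = r • form σ u v := by
  rcases Cert.zmod_two r with rfl | rfl
  · have h := form_add_right σ u 0 0
    rw [add_zero, left_eq_add] at h
    rw [zero_smul, zero_smul, h]
  · rw [one_smul, one_smul]

/-- The form as a bilinear map. -/
noncomputable def formL (σ : Spor.M23) : C0 →ₗ[ZMod 2] C0 →ₗ[ZMod 2] ZMod 2 :=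
  LinearMap.mk₂ (ZMod 2) (form σ) (form_add_left σ) (form_smul_left σ) (form_add_right σ) (form_smul_right σ)

theorem formL_apply (σ : Spor.M23) (u v : C0) : formL σ u v = form σ u v := rfl

/-- Every such form is the polar form of some function. -/
theorem exists_refinement (σ : Spor.M23) :
    ∃ f : C0 → ZMod 2, ∀ u v, f (u + v) = f u + f v + form σ u v := by
  let b := Module.finBasis (ZMod 2) C0
  let B : C0 →ₗ[ZMod 2] C0 →ₗ[ZMod 2] ZMod 2 :=
    b.constr (ZMod 2) fun i => b.constr (ZMod 2) fun j => if i < j then formL σ (b i) (b j) else 0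
  have hB : ∀ i j, B (b i) (b j) = if i < j then formL σ (b i) (b j) else 0 := fun i j => by
    simp only [B, Module.Basis.constr_basis]
  have hself : ∀ u, form σ u u = 0 := fun u => del_self (m23_mem σ) (mem_code u)
  have hsymm : ∀ u v, form σ v u = form σ u v := fun u v => by
    have h := hself (u + v)
    rw [form_add_left, form_add_right, form_add_right, hself, hself] at h
    revert h
    generalize form σ u v = p
    generalize form σ v u = q
    revert p q
    decide
  have hsum : B + B.flip = formL σ := by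
    refine LinearMap.ext_basis b b fun i j => ?_
    simp only [LinearMap.add_apply, LinearMap.flip_apply, hB]
    rcases lt_trichotomy i j with h | rfl | h
    · rw [if_pos h, if_neg h.asymm, add_zero]
    · simp [formL_apply, hself]
    · rw [if_neg h.asymm, if_pos h, zero_add, formL_apply, formL_apply, hsymm]
  refine ⟨fun u => B u u, fun u v => ?_⟩
  have := LinearMap.congr_fun (LinearMap.congr_fun hsum u) v
  simp only [LinearMap.add_apply, LinearMap.flip_apply, formL_apply] at this
  simp only [← this, map_add, LinearMap.add_apply]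
  abel

end CfsgLib.ParkerExt
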